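import Groth.Agent.SpecPi.Loc
import Mathlib.AlgebraicGeometry.Sites.Fpqc
import Mathlib.AlgebraicGeometry.Limits

/-!
# Existence of morphisms out of the spectrum of a product of rings
-/

universe u

open CategoryTheory Limits AlgebraicGeometry

namespace Groth.SpecPi

/-- A finite cover of `Spec R` by open sets admits a subordinate partition of unity. -/
theorem exists_elements {R : Type u} [CommRing R] {σ : Type*} [Fintype σ]
    (V : σ → TopologicalSpace.Opens (PrimeSpectrum R)) (hV : ∀ x, ∃ k, x ∈ V k) :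
    ∃ g : σ → R, Ideal.span (Set.range g) = ⊤ ∧ ∀ k, PrimeSpectrum.basicOpen (g k) ≤ V k := by
  classical
  let I : σ → Ideal R := fun k ↦ PrimeSpectrum.vanishingIdeal ((V k : Set (PrimeSpectrum R))ᶜ)
  have hI : (⨆ k, I k) = ⊤ := by
    by_contra hne
    obtain ⟨m, hm, hle⟩ := Ideal.exists_le_maximal _ hne
    obtain ⟨k, hk⟩ := hV ⟨m, hm.isPrime⟩
    have hmem : (⟨m, hm.isPrime⟩ : PrimeSpectrum R) ∈ PrimeSpectrum.zeroLocus (I k : Set R) :=
      (le_iSup I k).trans hle
    rw [PrimeSpectrum.zeroLocus_vanishingIdeal_eq_closure, (V k).isOpen.isClosed_compl.closure_eq]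
      at hmem
    exact hmem hk
  obtain ⟨g, hg⟩ := (Submodule.mem_iSup_iff_exists_finsupp I (1 : R)).1 (hI ▸ trivial)
  refine ⟨fun k ↦ g k, ?_, fun k x hx ↦ ?_⟩
  · rw [Ideal.eq_top_iff_one, ← hg.2]
    exact Ideal.sum_mem _ fun k _ ↦ Ideal.subset_span ⟨k, rfl⟩
  · by_contra hxk
    exact hx (PrimeSpectrum.mem_vanishingIdeal _ _ |>.1 (hg.1 k) x hxk)

variable {ι : Type u} (A : ι → Type u) [∀ i, CommRing (A i)]

theorem exists_desc {X : Scheme.{u}} [CompactSpace X] [QuasiSeparatedSpace X]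
    (f : ∀ i, Spec (CommRingCat.of (A i)) ⟶ X) :
    ∃ F : Spec (CommRingCat.of (∀ i, A i)) ⟶ X, ∀ i, proj A i ≫ F = f i := by
  classical
  let 𝒰 := X.affineCover.finiteSubcover
  let U : 𝒰.I₀ → X.Opens := fun k ↦ (𝒰.f k).opensRange
  have hU : ∀ k, IsAffineOpen (U k) := fun k ↦ by
    have : IsAffine (𝒰.X k) := by dsimp [𝒰]; infer_instance
    exact isAffineOpen_opensRange (𝒰.f k)
  have := Fintype.ofFinite 𝒰.I₀
  have hcov : ∀ x : X, ∃ k, x ∈ U k := fun x ↦ ⟨_, 𝒰.covers x⟩
  choose g hgspan hgle using fun i ↦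
    exists_elements (fun k ↦ f i ⁻¹ᵁ U k) (fun x ↦ hcov (f i x))
  let G : 𝒰.I₀ → ∀ i, A i := fun k i ↦ g i k
  have hcomp : ∀ k i, Set.range (Spec.map (CommRingCat.ofHom
      (algebraMap (A i) (Localization.Away (g i k)))) ≫ f i) ⊆ Set.range (U k).ι := by
    rintro k i _ ⟨z, rfl⟩
    rw [Scheme.Opens.range_ι, Scheme.Hom.comp_apply]
    apply hgle i k
    have hz : (PrimeSpectrum.comap (algebraMap (A i) (Localization.Away (g i k))) z :
        PrimeSpectrum (A i)) ∈ Set.range (PrimeSpectrum.comap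
          (algebraMap (A i) (Localization.Away (g i k)))) := ⟨z, rfl⟩
    rw [PrimeSpectrum.localization_away_comap_range (Localization.Away (g i k)) (g i k)] at hz
    exact hz
  let c : ∀ k i, Spec (CommRingCat.of (Localization.Away (g i k))) ⟶ (U k).toScheme :=
    fun k i ↦ IsOpenImmersion.lift (U k).ι _ (hcomp k i)
  have hiso : ∀ k, ∃ d : Spec (CommRingCat.of (AwayPi A (G k))) ⟶ (U k).toScheme,
      ∀ i, proj (fun i ↦ Localization.Away (g i k)) i ≫ d = c k i := fun k ↦ by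
    have : IsAffine (U k).toScheme := hU k
    let P := Γ((U k).toScheme, ⊤)
    refine ⟨Spec.map (CommRingCat.ofHom (RingHom.pi fun i ↦
      (Spec.preimage (c k i ≫ (U k).toScheme.isoSpec.hom)).hom)) ≫ (U k).toScheme.isoSpec.inv,
      fun i ↦ ?_⟩
    rw [← Spec.map_comp_assoc]
    change Spec.map (Spec.preimage (c k i ≫ (U k).toScheme.isoSpec.hom)) ≫ _ = _
    rw [Spec.map_preimage, Category.assoc, Iso.hom_inv_id, Category.comp_id]
  choose d hd using hiso
  let e : ∀ k, Spec (CommRingCat.of (AwayPi A (G k))) ⟶ X := fun k ↦ d k ≫ (U k).ι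
  have he : ∀ k i, proj (fun i ↦ Localization.Away (g i k)) i ≫ e k =
      Spec.map (CommRingCat.ofHom (algebraMap (A i) (Localization.Away (g i k)))) ≫ f i := by
    intro k i
    rw [reassoc_of% hd k i, IsOpenImmersion.lift_fac]
  -- agreement on the refinements
  have hagree : ∀ k l, ∃ (α : AwayPi A (G k) →ₐ[∀ i, A i] AwayPi A (G k * G l))
      (β : AwayPi A (G l) →ₐ[∀ i, A i] AwayPi A (G k * G l)),
      Spec.map (CommRingCat.ofHom α.toRingHom) ≫ e k =
        Spec.map (CommRingCat.ofHom β.toRingHom) ≫ e l := by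
    intro k l
    have hu : ∀ i, IsUnit (algebraMap (A i) (Localization.Away ((G k * G l) i)) (g i k)) ∧
        IsUnit (algebraMap (A i) (Localization.Away ((G k * G l) i)) (g i l)) := fun i ↦
      IsUnit.mul_iff.1 (by
        rw [← map_mul]
        exact IsLocalization.Away.algebraMap_isUnit _)
    refine ⟨refine' A (G k) (G k * G l) fun i ↦ (hu i).1,
      refine' A (G l) (G k * G l) fun i ↦ (hu i).2, ?_⟩
    refine hom_ext (fun i ↦ Localization.Away ((G k * G l) i)) _ _ fun i ↦ ?_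
    have key : ∀ (m : 𝒰.I₀) (hm : ∀ i, IsUnit (algebraMap (A i)
        (Localization.Away ((G k * G l) i)) (g i m))),
        proj (fun i ↦ Localization.Away ((G k * G l) i)) i ≫
          Spec.map (CommRingCat.ofHom (refine' A (G m) (G k * G l) hm).toRingHom) ≫ e m =
        Spec.map (CommRingCat.ofHom (algebraMap (A i) (Localization.Away ((G k * G l) i)))) ≫
          f i := by
      intro m hm
      rw [← Spec.map_comp_assoc]
      have h1 : CommRingCat.ofHom (refine' A (G m) (G k * G l) hm).toRingHom ≫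
          CommRingCat.ofHom (Pi.evalRingHom (fun i ↦ Localization.Away ((G k * G l) i)) i) =
          CommRingCat.ofHom (Pi.evalRingHom (fun i ↦ Localization.Away (g i m)) i) ≫
            CommRingCat.ofHom (IsLocalization.Away.lift (S := Localization.Away (g i m))
              (g := algebraMap (A i) (Localization.Away ((G k * G l) i))) (g i m) (hm i)) := rfl
      rw [h1, Spec.map_comp_assoc, he m i, ← Spec.map_comp_assoc, ← CommRingCat.ofHom_comp,
        IsLocalization.Away.lift_comp]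
    rw [key k, key l]
  -- descent
  let D : Scheme.{u} := ∐ fun k ↦ Spec (CommRingCat.of (AwayPi A (G k)))
  let ιD := Sigma.ι fun k ↦ Spec (CommRingCat.of (AwayPi A (G k)))
  let p : D ⟶ Spec (CommRingCat.of (∀ i, A i)) := Sigma.desc fun k ↦ locMap A (G k)
  have hpι : ∀ k, ιD k ≫ p = locMap A (G k) := fun k ↦ Sigma.ι_desc _ _
  have := fun k ↦ flat_locMap A (G k)
  have : Flat p := inferInstanceAs (Flat (Sigma.desc _))
  have : Surjective p := ⟨fun x ↦ by
    obtain ⟨k, z, hz⟩ := exists_mem_range A G (fun i ↦ hgspan i) x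
    exact ⟨ιD k z, by rw [← Scheme.Hom.comp_apply, hpι, hz]⟩⟩
  have : IsAffine D := inferInstance
  have : QuasiCompact p := inferInstance
  let eD : D ⟶ X := Sigma.desc e
  have heι : ∀ k, ιD k ≫ eD = e k := fun k ↦ Sigma.ι_desc _ _
  have hdesc : ∀ {Z : Scheme.{u}} (g₁ g₂ : Z ⟶ D), g₁ ≫ p = g₂ ≫ p → g₁ ≫ eD = g₂ ≫ eD := by
    intro Z g₁ g₂ h12
    let W : 𝒰.I₀ × 𝒰.I₀ → Z.Opens := fun kl ↦
      g₁ ⁻¹ᵁ (ιD kl.1).opensRange ⊓ g₂ ⁻¹ᵁ (ιD kl.2).opensRange
    have hW : ⨆ kl, W kl = ⊤ := by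
      refine top_le_iff.1 fun z _ ↦ ?_
      obtain ⟨k, a, ha⟩ := (sigmaOpenCover _).exists_eq (g₁ z)
      obtain ⟨l, b, hb⟩ := (sigmaOpenCover _).exists_eq (g₂ z)
      exact TopologicalSpace.Opens.mem_iSup.2 ⟨(k, l), ⟨a, ha⟩, ⟨b, hb⟩⟩
    refine (Z.openCoverOfIsOpenCover W hW).hom_ext _ _ fun ⟨k, l⟩ ↦ ?_
    change (W (k, l)).ι ≫ g₁ ≫ eD = (W (k, l)).ι ≫ g₂ ≫ eD
    have hr₁ : Set.range ((W (k, l)).ι ≫ g₁) ⊆ Set.range (ιD k) := by
      rintro _ ⟨z, rfl⟩
      exact z.2.1
    have hr₂ : Set.range ((W (k, l)).ι ≫ g₂) ⊆ Set.range (ιD l) := by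
      rintro _ ⟨z, rfl⟩
      exact z.2.2
    obtain ⟨α, β, hαβ⟩ := hagree k l
    have := eq_of_agree A (G k) (G l) (e k) (e l) α β hαβ
      (IsOpenImmersion.lift (ιD k) _ hr₁) (IsOpenImmersion.lift (ιD l) _ hr₂) (by
        rw [← hpι k, ← hpι l, IsOpenImmersion.lift_fac_assoc, IsOpenImmersion.lift_fac_assoc,
          Category.assoc, Category.assoc, h12])
    rw [← heι k, ← heι l, IsOpenImmersion.lift_fac_assoc, IsOpenImmersion.lift_fac_assoc,
      Category.assoc, Category.assoc] at this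
    exact this
  refine ⟨EffectiveEpi.desc p eD hdesc, fun i ↦ ?_⟩
  -- components
  have hp : ∀ k, Spec.map (CommRingCat.ofHom (algebraMap (A i) (Localization.Away (g i k)))) ≫
      proj A i ≫ EffectiveEpi.desc p eD hdesc =
        Spec.map (CommRingCat.ofHom (algebraMap (A i) (Localization.Away (g i k)))) ≫ f i := by
    intro k
    have h1 : Spec.map (CommRingCat.ofHom (algebraMap (A i) (Localization.Away (g i k)))) ≫
        proj A i = proj (fun i ↦ Localization.Away (g i k)) i ≫ locMap A (G k) := by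
      rw [← Spec.map_comp, ← Spec.map_comp]
      rfl
    rw [reassoc_of% h1, ← hpι k, Category.assoc, EffectiveEpi.fac, heι, he]
  have hop : ∀ k, IsOpenImmersion (Spec.map (CommRingCat.ofHom
      (algebraMap (A i) (Localization.Away (g i k))))) := fun k ↦
    IsOpenImmersion.of_isLocalization (g i k)
  let 𝒱 : (Spec (CommRingCat.of (A i))).OpenCover :=
    Scheme.affineOpenCoverOfSpanRangeEqTop (fun k ↦ g i k) (hgspan i) |>.openCover
  exact 𝒱.hom_ext _ _ fun k ↦ hp k

end Groth.SpecPi
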