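import Mathlib.AlgebraicGeometry.Morphisms.Immersion
import Mathlib.AlgebraicGeometry.Morphisms.QuasiSeparated
import Mathlib.AlgebraicGeometry.Morphisms.Separated

/-!
# Morphisms out of the spectrum of a product of rings are determined by their components
-/

universe u

open CategoryTheory Limits AlgebraicGeometry

namespace Groth.SpecPi

variable {ι : Type u} (A : ι → Type u) [∀ i, CommRing (A i)]

/-- The morphism `Spec (A i) ⟶ Spec (∏ A i)`. -/
noncomputable abbrev proj (i : ι) : Spec (CommRingCat.of (A i)) ⟶ Spec (CommRingCat.of (∀ i, A i)) :=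
  Spec.map (CommRingCat.ofHom (Pi.evalRingHom A i))

/-- Unit ideals in each factor give the unit ideal in the product. -/
theorem span_range_eq_top {σ : Type*} [Fintype σ] (g : σ → ∀ i, A i)
    (h : ∀ i, Ideal.span (Set.range fun k ↦ g k i) = ⊤) : Ideal.span (Set.range g) = ⊤ := by
  have h' : ∀ i, ∃ c : σ → A i, ∑ k, c k * g k i = 1 := fun i ↦
    Ideal.mem_span_range_iff_exists_fun.1 (by rw [h i]; trivial)
  choose c hc using h'
  rw [Ideal.eq_top_iff_one]
  refine Ideal.mem_span_range_iff_exists_fun.2 ⟨fun k i ↦ c i k, ?_⟩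
  ext i
  simpa using hc i

/-- A quasi-compact immersion into `Spec (∏ A i)` through which all components factor is an
isomorphism. -/
theorem isIso_of_factors {Z : Scheme.{u}} (j : Z ⟶ Spec (CommRingCat.of (∀ i, A i)))
    [IsImmersion j] [QuasiCompact j] (h : ∀ i, ∃ s, s ≫ j = proj A i) : IsIso j := by
  classical
  have : CompactSpace Z := QuasiCompact.compactSpace_of_compactSpace j
  have hcov : Set.range j ⊆ (j.coborderRange : Set _) := subset_coborder
  let T : Set (∀ i, A i) :=
    {r : ∀ i, A i | (↑(PrimeSpectrum.basicOpen r) : Set (PrimeSpectrum (∀ i, A i))) ⊆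
      (j.coborderRange : Set (Spec (CommRingCat.of (∀ i, A i))))}
  have hT : (Set.range j : Set (PrimeSpectrum (∀ i, A i))) ⊆
      ⋃ r ∈ T, (↑(PrimeSpectrum.basicOpen r) : Set (PrimeSpectrum (∀ i, A i))) := fun x hx ↦ by
    obtain ⟨_, ⟨r, rfl⟩, hr, hsub⟩ :=
      PrimeSpectrum.isTopologicalBasis_basic_opens.exists_subset_of_mem_open (hcov hx)
        j.coborderRange.isOpen
    exact Set.mem_iUnion₂.2 ⟨r, hsub, hr⟩
  obtain ⟨t, ht, htfin, hsub⟩ := (isCompact_range j.continuous).elim_finite_subcover_image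
    (fun r _ ↦ (PrimeSpectrum.basicOpen r).isOpen) hT
  have := htfin.fintype
  have htop : Ideal.span (Set.range fun r : t ↦ (r : ∀ i, A i)) = ⊤ := by
    refine span_range_eq_top A _ fun i ↦ ?_
    by_contra hne
    obtain ⟨m, hm, hle⟩ := Ideal.exists_le_maximal _ hne
    obtain ⟨s, hs⟩ := h i
    have hmem : proj A i (⟨m, hm.isPrime⟩ : PrimeSpectrum (A i)) ∈ Set.range j := by
      rw [← hs, Scheme.Hom.comp_apply]
      exact ⟨_, rfl⟩
    obtain ⟨r, hr, hmr⟩ := Set.mem_iUnion₂.1 (hsub hmem)
    exact hmr (hle (Ideal.subset_span ⟨⟨r, hr⟩, rfl⟩))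
  have hclosed : IsClosed (Set.range j) := by
    suffices closure (Set.range j) \ Set.range j = ∅ by
      exact isClosed_of_closure_subset (Set.sdiff_eq_empty.1 this)
    rw [Set.eq_empty_iff_forall_notMem]
    intro x hx
    obtain ⟨r, hr, hxr⟩ : ∃ r ∈ t, r ∉ x.asIdeal := by
      by_contra hcon
      push Not at hcon
      exact x.isPrime.ne_top (eq_top_iff.2 (htop ▸ Ideal.span_le.2 (by
        rintro _ ⟨⟨r, hr⟩, rfl⟩
        exact hcon r hr)))
    have hmem : x ∈ coborder (Set.range j) := ht hr hxr
    exact hmem hx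
  have : IsClosedImmersion j := IsClosedImmersion.of_isPreimmersion _ hclosed
  refine IsClosedImmersion.isIso_of_injective_of_isAffine ?_
  rw [RingHom.injective_iff_ker_eq_bot, RingHom.ker_eq_bot_iff_eq_zero]
  intro a ha
  obtain ⟨b, rfl⟩ := (ConcreteCategory.bijective_of_isIso
    (Scheme.ΓSpecIso (CommRingCat.of (∀ i, A i))).inv).2 a
  suffices b = 0 by rw [this, map_zero]
  funext i
  obtain ⟨s, hs⟩ := h i
  have h1 : (proj A i).appTop ((Scheme.ΓSpecIso _).inv b) = 0 := by
    rw [← hs, Scheme.Hom.comp_appTop, CommRingCat.comp_apply]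
    exact (congrArg s.appTop ha).trans (map_zero _)
  have h2 := congrArg (fun m ↦ m.hom b)
    (Scheme.ΓSpecIso_inv_naturality (CommRingCat.ofHom (Pi.evalRingHom A i)))
  have h3 : (Scheme.ΓSpecIso (CommRingCat.of (A i))).inv.hom (b i) =
      (Scheme.ΓSpecIso (CommRingCat.of (A i))).inv.hom 0 := by
    rw [map_zero]
    exact h2.trans h1
  exact (ConcreteCategory.bijective_of_isIso (Scheme.ΓSpecIso (CommRingCat.of (A i))).inv).1 h3

/-- Two morphisms to a quasi-separated scheme with the same components are equal. -/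
theorem hom_ext {X : Scheme.{u}} [QuasiSeparatedSpace X]
    (f g : Spec (CommRingCat.of (∀ i, A i)) ⟶ X) (h : ∀ i, proj A i ≫ f = proj A i ≫ g) :
    f = g := by
  have : QuasiSeparated (terminal.from X) :=
    (quasiSeparated_iff_quasiSeparatedSpace _).2 inferInstance
  let fg : Spec (CommRingCat.of (∀ i, A i)) ⟶ pullback (terminal.from X) (terminal.from X) :=
    pullback.lift f g (terminal.hom_ext _ _)
  have hf : fg ≫ pullback.fst _ _ = f := pullback.lift_fst _ _ _
  have hg : fg ≫ pullback.snd _ _ = g := pullback.lift_snd _ _ _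
  let δ := pullback.diagonal (terminal.from X)
  let j := pullback.snd δ fg
  have : IsIso j := isIso_of_factors A j fun i ↦
    ⟨pullback.lift (proj A i ≫ f) (proj A i) (pullback.hom_ext
      (by rw [Category.assoc (proj A i) fg, hf, Category.assoc, pullback.diagonal_fst,
        Category.comp_id])
      (by rw [Category.assoc (proj A i) fg, hg, Category.assoc, pullback.diagonal_snd,
        Category.comp_id, h i])), pullback.lift_snd _ _ _⟩
  have hc : pullback.fst δ fg ≫ δ = j ≫ fg := pullback.condition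
  have h1 : pullback.fst δ fg = j ≫ f := by
    rw [← hf, ← Category.assoc, ← hc, Category.assoc, pullback.diagonal_fst, Category.comp_id]
  have h2 : pullback.fst δ fg = j ≫ g := by
    rw [← hg, ← Category.assoc, ← hc, Category.assoc, pullback.diagonal_snd, Category.comp_id]
  exact (cancel_epi j).1 (h1.symm.trans h2)

end Groth.SpecPi
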