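import Groth.Agent.SpecPi.Ext
import Mathlib.RingTheory.Flat.Localization
import Mathlib.RingTheory.Localization.Away.Basic
import Mathlib.AlgebraicGeometry.Morphisms.Flat
import Mathlib.AlgebraicGeometry.Pullbacks

/-!
# Products of localizations
-/

universe u

open CategoryTheory Limits AlgebraicGeometry TensorProduct

namespace Groth.SpecPi

variable {ι : Type u} (A : ι → Type u) [∀ i, CommRing (A i)]

/-- The elements whose components are powers of the components of `g`. -/
def pows (g : ∀ i, A i) : Submonoid (∀ i, A i) :=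
  Submonoid.pi Set.univ fun i ↦ Submonoid.powers (g i)

theorem mem_pows {g s : ∀ i, A i} : s ∈ pows A g ↔ ∀ i, ∃ n : ℕ, g i ^ n = s i := by
  simp [pows, Submonoid.mem_pi, Submonoid.mem_powers_iff]

/-- The product of the localizations of the factors at the components of `g`. -/
abbrev AwayPi (g : ∀ i, A i) : Type u := ∀ i, Localization.Away (g i)

theorem algebraMap_apply (g a : ∀ i, A i) (i : ι) :
    algebraMap (∀ i, A i) (AwayPi A g) a i = algebraMap (A i) (Localization.Away (g i)) (a i) := rfl

theorem isLocalization_awayPi (g : ∀ i, A i) : IsLocalization (pows A g) (AwayPi A g) := by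
  classical
  refine (isLocalization_iff _ _).2 ⟨?_, fun z ↦ ?_, fun {a b} hab ↦ ?_⟩
  · rintro ⟨s, hs⟩
    choose u hu using fun i ↦ isUnit_iff_exists_inv.1 (IsLocalization.map_units
      (Localization.Away (g i)) (⟨s i, hs i trivial⟩ : Submonoid.powers (g i)))
    exact isUnit_iff_exists_inv.2 ⟨u, funext hu⟩
  · choose x hx using fun i ↦ IsLocalization.surj (Submonoid.powers (g i)) (z i)
    exact ⟨⟨fun i ↦ (x i).1, fun i ↦ (x i).2, fun i _ ↦ (x i).2.2⟩, funext hx⟩
  · choose c hc using fun i ↦ IsLocalization.exists_of_eq (M := Submonoid.powers (g i))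
      (congrFun hab i :)
    exact ⟨⟨fun i ↦ c i, fun i _ ↦ (c i).2⟩, funext hc⟩

/-- `Spec` of the product of localizations, over `Spec` of the product. -/
noncomputable abbrev locMap (g : ∀ i, A i) :
    Spec (CommRingCat.of (AwayPi A g)) ⟶ Spec (CommRingCat.of (∀ i, A i)) :=
  Spec.map (CommRingCat.ofHom (algebraMap (∀ i, A i) (AwayPi A g)))

theorem flat_locMap (g : ∀ i, A i) : Flat (locMap A g) := by
  have := isLocalization_awayPi A g
  have h : (algebraMap (∀ i, A i) (AwayPi A g)).Flat :=
    RingHom.flat_algebraMap_iff.2 (IsLocalization.flat (AwayPi A g) (pows A g))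
  exact (HasRingHomProperty.Spec_iff (P := @Flat)).2 h

/-- The localizations cover. -/
theorem exists_mem_range {σ : Type*} [Fintype σ] (g : σ → ∀ i, A i)
    (h : ∀ i, Ideal.span (Set.range fun k ↦ g k i) = ⊤) (x : Spec (CommRingCat.of (∀ i, A i))) :
    ∃ k, x ∈ Set.range (locMap A (g k)) := by
  classical
  by_contra hcon
  push Not at hcon
  have : ∀ k, ∃ s ∈ pows A (g k), s ∈ x.asIdeal := fun k ↦ by
    have := isLocalization_awayPi A (g k)
    by_contra hk
    push Not at hk
    refine hcon k ?_
    have hx : x ∈ Set.range (PrimeSpectrum.comap (algebraMap (∀ i, A i) (AwayPi A (g k)))) := by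
      rw [PrimeSpectrum.localization_comap_range _ (pows A (g k))]
      exact Set.disjoint_left.2 hk
    exact hx
  choose s hs hsx using this
  choose n hn using fun k ↦ (mem_pows A).1 (hs k)
  have hle : Ideal.span (Set.range s) ≤ x.asIdeal := Ideal.span_le.2 (by
    rintro _ ⟨k, rfl⟩
    exact hsx k)
  refine x.isPrime.ne_top (eq_top_iff.2 (le_of_eq_of_le (span_range_eq_top A s fun i ↦ ?_).symm hle))
  rw [Ideal.eq_top_iff_one]
  by_contra h1
  obtain ⟨m, hm, hle'⟩ := Ideal.exists_le_maximal _ ((Ideal.ne_top_iff_one _).2 h1)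
  refine hm.ne_top (eq_top_iff.2 ((h i).ge.trans (Ideal.span_le.2 ?_)))
  rintro _ ⟨k, rfl⟩
  refine hm.isPrime.mem_of_pow_mem (n k i) ?_
  rw [hn k i]
  exact hle' (Ideal.subset_span ⟨k, rfl⟩)

/-- The map between products of localizations. -/
noncomputable def refine' (g h : ∀ i, A i) (hu : ∀ i, IsUnit (algebraMap (A i)
    (Localization.Away (h i)) (g i))) : AwayPi A g →ₐ[∀ i, A i] AwayPi A h where
  __ := RingHom.pi fun i ↦ (IsLocalization.Away.lift (S := Localization.Away (g i))
    (g := algebraMap (A i) (Localization.Away (h i))) (g i) (hu i)).comp (Pi.evalRingHom _ i)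
  commutes' a := funext fun i ↦ IsLocalization.Away.lift_eq (S := Localization.Away (g i))
    (g := algebraMap (A i) (Localization.Away (h i))) (g i) (hu i) (a i)

/-- Morphisms from two of the localizations which agree on the common refinement agree on any
scheme mapping to both compatibly over `Spec (∏ A i)`. -/
theorem eq_of_agree {X T : Scheme.{u}} [QuasiSeparatedSpace X] (g g' : ∀ i, A i)
    (e : Spec (CommRingCat.of (AwayPi A g)) ⟶ X) (e' : Spec (CommRingCat.of (AwayPi A g')) ⟶ X)
    (α : AwayPi A g →ₐ[∀ i, A i] AwayPi A (g * g'))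
    (β : AwayPi A g' →ₐ[∀ i, A i] AwayPi A (g * g'))
    (h : Spec.map (CommRingCat.ofHom α.toRingHom) ≫ e =
      Spec.map (CommRingCat.ofHom β.toRingHom) ≫ e')
    (t : T ⟶ Spec (CommRingCat.of (AwayPi A g))) (t' : T ⟶ Spec (CommRingCat.of (AwayPi A g')))
    (ht : t ≫ locMap A g = t' ≫ locMap A g') : t ≫ e = t' ≫ e' := by
  classical
  have := isLocalization_awayPi A g
  have := isLocalization_awayPi A g'
  have := isLocalization_awayPi A (g * g')
  let D := AwayPi A g ⊗[∀ i, A i] AwayPi A g'
  let inl : AwayPi A g →ₐ[∀ i, A i] D := Algebra.TensorProduct.includeLeft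
  let inr : AwayPi A g' →ₐ[∀ i, A i] D := Algebra.TensorProduct.includeRight
  have hu : ∀ s : pows A (g * g'), IsUnit (algebraMap (∀ i, A i) D s) := by
    rintro ⟨s, hs⟩
    choose n hn using (mem_pows A).1 hs
    have hsplit : s = (fun i ↦ g i ^ n i) * fun i ↦ g' i ^ n i := by
      funext i
      rw [Pi.mul_apply, ← hn i, Pi.mul_apply, mul_pow]
    change IsUnit (algebraMap (∀ i, A i) D s)
    rw [hsplit, map_mul]
    refine IsUnit.mul ?_ ?_
    · rw [← inl.commutes]
      exact (IsLocalization.map_units (AwayPi A g)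
        (⟨_, (mem_pows A).2 fun i ↦ ⟨n i, rfl⟩⟩ : pows A g)).map inl
    · rw [← inr.commutes]
      exact (IsLocalization.map_units (AwayPi A g')
        (⟨_, (mem_pows A).2 fun i ↦ ⟨n i, rfl⟩⟩ : pows A g')).map inr
  let ψ : AwayPi A (g * g') →ₐ[∀ i, A i] D :=
    IsLocalization.liftAlgHom (f := Algebra.ofId (∀ i, A i) D) hu
  have hα : ψ.comp α = inl := (IsLocalization.algHom_subsingleton (pows A g)).elim _ _
  have hβ : ψ.comp β = inr := (IsLocalization.algHom_subsingleton (pows A g')).elim _ _
  have key : pullback.fst (locMap A g) (locMap A g') ≫ e =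
      pullback.snd (locMap A g) (locMap A g') ≫ e' := by
    rw [← cancel_epi (pullbackSpecIso (∀ i, A i) (AwayPi A g) (AwayPi A g')).inv]
    erw [pullbackSpecIso_inv_fst_assoc, pullbackSpecIso_inv_snd_assoc]
    change Spec.map (CommRingCat.ofHom inl.toRingHom) ≫ e =
      Spec.map (CommRingCat.ofHom inr.toRingHom) ≫ e'
    rw [← hα, ← hβ, show (ψ.comp α).toRingHom = ψ.toRingHom.comp α.toRingHom from rfl,
      show (ψ.comp β).toRingHom = ψ.toRingHom.comp β.toRingHom from rfl, CommRingCat.ofHom_comp,
      CommRingCat.ofHom_comp, Spec.map_comp, Spec.map_comp, Category.assoc, Category.assoc, h]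
  rw [← pullback.lift_fst t t' ht, Category.assoc, key, pullback.lift_snd_assoc]

end Groth.SpecPi
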